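import Mathlib

/-!
Elementary facts about actions without fixed points on abelian groups.
-/

set_option autoImplicit false

namespace CfsgLib.Camina

variable {V : Type*} [CommGroup V]

/-- The norm of an automorphism of order `p`. -/
def norm (p : ℕ) (h : MulAut V) (v : V) : V := ∏ i ∈ Finset.range p, (h ^ i) v

theorem norm_fixed {p : ℕ} (hp : 0 < p) {h : MulAut V} (hh : h ^ p = 1) (v : V) : h (norm p h v) = norm p h v := by
  obtain ⟨n, rfl⟩ : ∃ n, p = n + 1 := ⟨p - 1, by omega⟩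
  unfold norm
  rw [map_prod, Finset.prod_range_succ' (fun i => (h ^ i) v), Finset.prod_range_succ]
  congr 1
  · refine Finset.prod_congr rfl fun i _ => ?_
    rw [pow_succ', MulAut.mul_apply]
  · rw [← MulAut.mul_apply, ← pow_succ', hh, pow_zero]

/-- Two commuting automorphisms of order `p` cannot generate a group without fixed points. -/
theorem pow_eq_one {p : ℕ} (hp : 0 < p) (α β : MulAut V) (hc : Commute α β) (hα : α ^ p = 1) (hβ : β ^ p = 1)
    (hfree : ∀ i k : ℕ, ¬ (p ∣ i ∧ p ∣ k) → ∀ v, (α ^ i * β ^ k) v = v → v = 1) (hp1 : 1 < p) (v : V) :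
    v ^ p = 1 := by
  have hnorm : ∀ (i k : ℕ), ¬ (p ∣ i ∧ p ∣ k) → ∀ w, norm p (α ^ i * β ^ k) w = 1 := fun i k hik w => by
    refine hfree i k hik _ (norm_fixed hp ?_ w)
    rw [((hc.pow_left i).pow_right k).mul_pow, ← pow_mul, mul_comm i, pow_mul, hα, ← pow_mul, mul_comm k, pow_mul,
      hβ, one_pow, one_pow, one_mul]
  have h0 : ∏ k ∈ Finset.range p, norm p (α ^ 1 * β ^ k) v = 1 :=
    Finset.prod_eq_one fun k _ => hnorm 1 k (fun h => absurd (Nat.le_of_dvd one_pos h.1) (by omega)) v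
  rw [show (∏ k ∈ Finset.range p, norm p (α ^ 1 * β ^ k) v) =
      ∏ i ∈ Finset.range p, ∏ k ∈ Finset.range p, ((α ^ 1 * β ^ k) ^ i) v from Finset.prod_comm] at h0
  rw [Finset.prod_eq_single 0] at h0
  · simpa using h0
  · intro i hi hi0
    have hik : ¬ (p ∣ 0 ∧ p ∣ i) := fun h =>
      absurd (Nat.le_of_dvd (Nat.pos_of_ne_zero hi0) h.2) (by have := Finset.mem_range.mp hi; omega)
    have e : ∀ k, ((α ^ 1 * β ^ k) ^ i) v = (α ^ i) (((α ^ 0 * β ^ i) ^ k) v) := fun k => by
      rw [pow_one, pow_zero, one_mul, (hc.pow_right k).mul_pow, MulAut.mul_apply, ← pow_mul, ← pow_mul, mul_comm k]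
    rw [Finset.prod_congr rfl (fun k _ => e k), ← map_prod]
    show (α ^ i) (norm p (α ^ 0 * β ^ i) v) = 1
    rw [hnorm 0 i hik, map_one]
  · exact fun h => absurd (Finset.mem_range.mpr hp) h

end CfsgLib.Camina
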