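import Mathlib
import Cfsg.Agent.Lib.Frobenius.Splitting
import Cfsg.Agent.Lib.Comp.PC
import Cfsg.Agent.Lib.Camina.FixedFree

/-!
Camina pairs: Frobenius, or one of the two sections is of prime power order.
-/

set_option autoImplicit false
set_option linter.unusedSectionVars false

namespace CfsgLib.Camina

open Subgroup

variable {G : Type*} [Group G] [Finite G] {N : Subgroup G} [N.Normal]

/-- Conjugates have equal orders. -/
theorem orderOf_eq (hcam : ∀ g : G, g ∉ N → ∀ n ∈ N, ∃ x : G, x * g * x⁻¹ = g * n) {g n : G} (hg : g ∉ N)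
    (hn : n ∈ N) : orderOf (g * n) = orderOf g := by
  obtain ⟨x, hx⟩ := hcam g hg n hn
  rw [← hx]
  exact orderOf_injective (MulAut.conj x).toMonoidHom (MulAut.conj x).injective g

theorem eq_one_of_pow_coprime {H : Type*} [Group H] {x : H} {m n : ℕ} (hmn : m.Coprime n) (hm : x ^ m = 1)
    (hn : x ^ n = 1) : x = 1 :=
  orderOf_eq_one_iff.mp (Nat.eq_one_of_dvd_coprimes hmn (orderOf_dvd_of_pow_eq_one hm) (orderOf_dvd_of_pow_eq_one hn))

/-- An element outside `N` commutes with no nontrivial element of `N` of coprime order. -/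
theorem eq_one_of_commute (hcam : ∀ g : G, g ∉ N → ∀ n ∈ N, ∃ x : G, x * g * x⁻¹ = g * n) {g n : G}
    (hg : g ∉ N) (hn : n ∈ N) (hc : Commute g n) (hcop : (orderOf g).Coprime (orderOf n)) : n = 1 := by
  have h := orderOf_eq hcam hg hn
  rw [hc.orderOf_mul_eq_mul_orderOf_of_coprime hcop] at h
  exact orderOf_eq_one_iff.mp ((mul_eq_left₀ (orderOf_pos g).ne').mp h)

/-- A power of `w` of `p`-power order in the same coset. -/
theorem exists_lift {p : ℕ} [Fact p.Prime] {w : G} {k : ℕ} (hw : w ^ p ^ k ∈ N) :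
    ∃ u ∈ zpowers w, (∃ i, u ^ p ^ i = 1) ∧ (u : G ⧸ N) = w := by
  obtain ⟨a, m, hm, hord⟩ := Nat.exists_eq_pow_mul_and_not_dvd (orderOf_pos w).ne' p (Fact.out : p.Prime).ne_one
  obtain ⟨t, -, ht⟩ := Nat.exists_mul_mod_eq_one_of_coprime
    ((((Fact.out : p.Prime).coprime_iff_not_dvd.mpr hm).symm).pow_right (k + 1))
    (Nat.one_lt_pow (by omega) (Fact.out : p.Prime).one_lt)
  refine ⟨w ^ (m * t), pow_mem (mem_zpowers w) _, ⟨a, ?_⟩, ?_⟩
  · rw [← pow_mul, show m * t * p ^ a = orderOf w * t by rw [hord]; ring, pow_mul, pow_orderOf_eq_one, one_pow]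
  · rw [QuotientGroup.mk_pow]
    have h1 : (w : G ⧸ N) ^ p ^ (k + 1) = 1 := by
      rw [pow_succ, pow_mul, ← QuotientGroup.mk_pow, (QuotientGroup.eq_one_iff _).mpr hw, one_pow]
    rw [← Nat.mod_add_div (m * t) (p ^ (k + 1)), ht, pow_add, pow_one, pow_mul, h1, one_pow, mul_one]

/-- If some element outside `N` has prime order then `N` is nilpotent. -/
theorem isNilpotent_of_prime_order (hcam : ∀ g : G, g ∉ N → ∀ n ∈ N, ∃ x : G, x * g * x⁻¹ = g * n) {x : G}
    (hx : x ∉ N) (hp : (orderOf x).Prime) : Group.IsNilpotent N := by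
  set Γ := N ⊔ zpowers x with hΓ
  have hNn : (N.subgroupOf Γ).Normal := inferInstance
  have hne : N.subgroupOf Γ ≠ ⊤ := fun h =>
    hx (subgroupOf_eq_top.mp h (mem_sup_right (mem_zpowers x)))
  have hout : ∀ g : ↥Γ, g ∉ N.subgroupOf Γ → g ^ orderOf x = 1 := by
    rintro ⟨g, hgΓ⟩ hgN
    refine Subtype.ext ?_
    show g ^ orderOf x = 1
    have h1 : g ∈ ((N ⊔ zpowers x : Subgroup G) : Set G) := hgΓ
    rw [normal_mul] at h1
    obtain ⟨n, hn, z, hz, rfl⟩ := h1
    have hzN : z ∉ N := fun h => hgN (Subgroup.mem_subgroupOf.mpr (N.mul_mem hn h))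
    have hz1 : orderOf z = orderOf x := by
      obtain ⟨i, rfl⟩ := mem_zpowers_iff.mp hz
      refine ((Nat.dvd_prime hp).mp (orderOf_dvd_of_pow_eq_one ?_)).resolve_left fun h => hzN ?_
      · rw [← zpow_natCast, ← zpow_mul, mul_comm, zpow_mul, zpow_natCast, pow_orderOf_eq_one, one_zpow]
      · rw [orderOf_eq_one_iff.mp h]; exact N.one_mem
    have h2 : orderOf (n * z) = orderOf z := by
      have := orderOf_eq hcam hzN ((‹N.Normal›).conj_mem n hn z⁻¹)
      rwa [inv_inv, show z * (z⁻¹ * n * z) = n * z by group] at this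
    rw [← hz1, ← h2]
    exact pow_orderOf_eq_one _
  haveI := CfsgLib.Frob.isNilpotent_of_pow_eq_one_outside hp (N.subgroupOf Γ) hne hout
  exact Group.nilpotent_of_mulEquiv (Subgroup.subgroupOfEquivOfLe (show N ≤ Γ from le_sup_left))

/-- With all elements of prime order inside `N`, no element of order `q` normalizes a `p`-subgroup of the quotient. -/
theorem no_normalize (hcam : ∀ g : G, g ∉ N → ∀ n ∈ N, ∃ x : G, x * g * x⁻¹ = g * n)
    (hA : ∀ g : G, (orderOf g).Prime → g ∈ N) {p q : ℕ} [Fact p.Prime] [Fact q.Prime] (hpq : p ≠ q)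
    {P₀ : Subgroup (G ⧸ N)} (hP₀ : IsPGroup p P₀) (hP₀1 : P₀ ≠ ⊥) {w : G ⧸ N} (hw : orderOf w = q)
    (hwn : w ∈ normalizer (P₀ : Set (G ⧸ N))) : False := by
  have hcop : ∀ i j, (p ^ i).Coprime (q ^ j) := fun i j =>
    ((Nat.coprime_primes (Fact.out : p.Prime) (Fact.out : q.Prime)).mpr hpq).pow i j
  set D : Subgroup G := P₀.comap (QuotientGroup.mk' N) with hD
  set P : Sylow p ↥D := default with hP
  set P' : Subgroup G := (P : Subgroup ↥D).map D.subtype with hP'
  set E := normalizer (D : Set G) with hE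
  obtain ⟨j, hj⟩ := IsPGroup.iff_card.mp hP₀
  -- a lift normalizing the Sylow subgroup
  obtain ⟨n, hn, hnw⟩ : ∃ n ∈ normalizer (P' : Set G), w⁻¹ * (n : G ⧸ N) ∈ P₀ := by
    obtain ⟨w', rfl⟩ := QuotientGroup.mk'_surjective N w
    have hwE : w' ∈ E := by
      rw [hE, mem_normalizer_iff]
      intro h
      show (QuotientGroup.mk' N h ∈ P₀) ↔ (QuotientGroup.mk' N (w' * h * w'⁻¹) ∈ P₀)
      rw [map_mul, map_mul, map_inv]
      exact mem_normalizer_iff.mp hwn _
    have hmove : (P'.map (MulAut.conj w').toMonoidHom) ≤ D := by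
      rintro _ ⟨x, ⟨y, _, rfl⟩, rfl⟩
      exact (mem_normalizer_iff.mp hwE y).mp y.2
    set P₂ : Subgroup ↥D := (P'.map (MulAut.conj w').toMonoidHom).subgroupOf D with hP₂
    have hP₂c : Nat.card P₂ = Nat.card (P : Subgroup ↥D) := by
      rw [hP₂, Nat.card_congr (subgroupOfEquivOfLe hmove).toEquiv,
        ← Nat.card_congr (P'.equivMapOfInjective _ (MulAut.conj w').injective).toEquiv, hP',
        ← Nat.card_congr ((P : Subgroup ↥D).equivMapOfInjective _ D.subtype_injective).toEquiv]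
    obtain ⟨d, hd⟩ := MulAction.exists_smul_eq ↥D (Sylow.ofCard P₂ (by rw [hP₂c]; exact P.card_eq_multiplicity)) P
    refine ⟨(d : G) * w', mem_normalizer_fintype fun x hx => ?_, ?_⟩
    · obtain ⟨y, hy, rfl⟩ := hx
      have h1 : (⟨w' * y * w'⁻¹, (mem_normalizer_iff.mp hwE y).mp y.2⟩ : ↥D) ∈
          (Sylow.ofCard P₂ (by rw [hP₂c]; exact P.card_eq_multiplicity) : Subgroup ↥D) := by
        show w' * y * w'⁻¹ ∈ P'.map (MulAut.conj w').toMonoidHom
        exact ⟨y, ⟨y, hy, rfl⟩, rfl⟩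
      have h2 := Subgroup.smul_mem_pointwise_smul _ (MulAut.conj d) _ h1
      rw [← Sylow.coe_subgroup_smul] at h2
      have h3 : MulAut.conj d • (⟨w' * y * w'⁻¹, (mem_normalizer_iff.mp hwE y).mp y.2⟩ : ↥D) ∈ (P : Subgroup ↥D) := by
        rwa [hd] at h2
      refine ⟨_, h3, ?_⟩
      show (d : G) * (w' * y * w'⁻¹) * (d : G)⁻¹ = d * w' * y * (d * w')⁻¹
      group
    · have hd2 : QuotientGroup.mk' N (d : G) ∈ P₀ := d.2
      show (QuotientGroup.mk' N w')⁻¹ * QuotientGroup.mk' N ((d : G) * w') ∈ P₀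
      rw [map_mul]
      have h4 := (mem_normalizer_iff.mp (inv_mem hwn) _).mp hd2
      rw [inv_inv, mul_assoc] at h4
      exact h4
  -- make the image of order `q`
  have hpow : ∀ m : ℕ, (w ^ m)⁻¹ * ((n : G ⧸ N) ^ m) ∈ P₀ := by
    intro m
    induction m with
    | zero => simp
    | succ m ih =>
      have h1 := (mem_normalizer_iff.mp (inv_mem hwn) _).mp ih
      rw [inv_inv] at h1
      have h2 := P₀.mul_mem h1 hnw
      rw [show w⁻¹ * ((w ^ m)⁻¹ * (n : G ⧸ N) ^ m) * w * (w⁻¹ * (n : G ⧸ N)) =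
        (w ^ (m + 1))⁻¹ * (n : G ⧸ N) ^ (m + 1) by rw [pow_succ w m, pow_succ (n : G ⧸ N) m, mul_inv_rev]; group] at h2
      exact h2
  have hnq : ((n : G ⧸ N) ^ p ^ j) ^ q = 1 := by
    rw [← pow_mul, mul_comm, pow_mul]
    have h1 := hpow q
    rw [← hw, pow_orderOf_eq_one, inv_one, one_mul, hw] at h1
    have h2 := pow_card_eq_one' (G := P₀) (x := ⟨_, h1⟩)
    rw [hj] at h2
    exact congrArg Subtype.val h2
  have hn1 : (n : G ⧸ N) ^ p ^ j ≠ 1 := fun h => by
    have h1 := hpow (p ^ j)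
    rw [h, mul_one] at h1
    have h2 := pow_card_eq_one' (G := P₀) (x := ⟨_, h1⟩)
    rw [hj] at h2
    have h3 : ((w ^ p ^ j)⁻¹) ^ p ^ j = 1 := congrArg Subtype.val h2
    rw [inv_pow, inv_eq_one, ← pow_mul, ← pow_add] at h3
    have h4 := eq_one_of_pow_coprime (hcop (j + j) 1) h3 (by rw [pow_one, ← hw, pow_orderOf_eq_one])
    rw [h4, orderOf_one] at hw
    exact (Fact.out : q.Prime).ne_one hw.symm
  obtain ⟨v, hv, ⟨i, hi⟩, hvn⟩ := exists_lift (N := N) (p := q) (w := n ^ p ^ j) (k := 1)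
    ((QuotientGroup.eq_one_iff _).mp (by rw [pow_one, QuotientGroup.mk_pow, QuotientGroup.mk_pow]; exact hnq))
  have hvP : v ∈ normalizer (P' : Set G) := (zpowers_le.mpr (pow_mem hn _)) hv
  have hvN : v ∉ N := fun h => hn1 (by
    rw [← QuotientGroup.mk_pow, ← hvn]
    exact (QuotientGroup.eq_one_iff _).mpr h)
  set z := v ^ q with hz
  have hzN : z ∈ N := (QuotientGroup.eq_one_iff _).mp (by
    rw [hz, QuotientGroup.mk_pow, hvn, QuotientGroup.mk_pow]; exact hnq)
  have hz1 : z ≠ 1 := fun h => hvN (hA v (by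
    rw [orderOf_eq_prime h fun e => hvN (e ▸ N.one_mem)]
    exact Fact.out))
  have hP'p : IsPGroup p P' := P.isPGroup'.map _
  -- the Sylow subgroup is not inside `N`
  obtain ⟨u, hu, huN⟩ : ∃ u ∈ P', u ∉ N := by
    by_contra hcon
    push Not at hcon
    have hND : N ≤ D := fun x hx => by
      show QuotientGroup.mk' N x ∈ P₀
      rw [QuotientGroup.mk'_apply, (QuotientGroup.eq_one_iff x).mpr hx]; exact P₀.one_mem
    have h1 : (P : Subgroup ↥D) ≤ N.subgroupOf D := fun x hx => hcon _ ⟨x, hx, rfl⟩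
    have h2 : N.relIndex D = p ^ j := by
      have h := Subgroup.relIndex_comap (⊥ : Subgroup (G ⧸ N)) (QuotientGroup.mk' N) D
      rw [MonoidHom.comap_bot, QuotientGroup.ker_mk', relIndex_bot_left, hD,
        map_comap_eq_self_of_surjective (QuotientGroup.mk'_surjective N)] at h
      rw [hD, h, hj]
    have h3 : j ≠ 0 := fun h => by
      rw [h, pow_zero] at hj
      exact hP₀1 (Subgroup.card_eq_one.mp hj)
    exact P.not_dvd_index ((dvd_pow_self p h3).trans (h2 ▸ Subgroup.index_dvd_of_le h1))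
  have hW : (Nat.card ↥(P' ⊓ N)).Coprime q := by
    obtain ⟨m, hm⟩ := IsPGroup.iff_card.mp (hP'p.to_le inf_le_left)
    rw [hm]
    simpa using hcop m 1
  have hzq : IsPGroup q (zpowers z) := by
    intro y
    obtain ⟨m, hm⟩ := mem_zpowers_iff.mp y.2
    refine ⟨i, Subtype.ext ?_⟩
    rw [SubmonoidClass.coe_pow, ← hm, ← zpow_natCast, ← zpow_mul, mul_comm, zpow_mul, zpow_natCast, hz, ← pow_mul,
      mul_comm, pow_mul, hi, one_pow, one_zpow]
    rfl
  have hKW : P' ≤ normalizer ((P' ⊓ N : Subgroup G) : Set G) := fun x hx => mem_normalizer_fintype fun y hy =>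
    ⟨P'.mul_mem (P'.mul_mem hx hy.1) (P'.inv_mem hx), (‹N.Normal›).conj_mem y hy.2 x⟩
  obtain ⟨y, hy, hfix⟩ := CfsgLib.Comp.exists_fixed_lift_group (p := q) (K := P') (W := P' ⊓ N) (A := zpowers z)
    inf_le_left hKW hW hzq (fun a ha k hk => ⟨P'.mul_mem
        ((mem_normalizer_iff.mp ((zpowers_le.mpr (pow_mem hvP q)) ha) k).mp hk) (P'.inv_mem hk),
      by
        have haN : a ∈ N := (zpowers_le.mpr hzN) ha
        rw [show a * k * a⁻¹ * k⁻¹ = a * (k * a⁻¹ * k⁻¹) by group]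
        exact N.mul_mem haN ((‹N.Normal›).conj_mem _ (N.inv_mem haN) k)⟩) hu
  have hcomm : Commute (u * y) z := (hfix z (mem_zpowers z)).symm
  have huy : u * y ∉ N := fun h => huN (by
    have := N.mul_mem h (N.inv_mem hy.2)
    rwa [mul_inv_cancel_right] at this)
  obtain ⟨b, hb⟩ := IsPGroup.iff_orderOf.mp hP'p ⟨u * y, P'.mul_mem hu hy.1⟩
  rw [Subgroup.orderOf_mk] at hb
  exact hz1 (eq_one_of_commute hcam huy hzN hcomm (hb ▸ (hcop b i).coprime_dvd_right
    (orderOf_dvd_of_pow_eq_one (by rw [hz, ← pow_mul, mul_comm, pow_mul, hi, one_pow]))))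

/-- With all elements of prime order inside `N`, the quotient has prime power order. -/
theorem index_isPrimePow (hcam : ∀ g : G, g ∉ N → ∀ n ∈ N, ∃ x : G, x * g * x⁻¹ = g * n)
    (hA : ∀ g : G, (orderOf g).Prime → g ∈ N) (hN : N ≠ ⊤) : IsPrimePow N.index := by
  have hne : N.index ≠ 1 := fun h => hN (index_eq_one.mp h)
  set p := N.index.minFac
  haveI : Fact p.Prime := ⟨Nat.minFac_prime hne⟩
  by_contra hpp
  obtain ⟨q, hq, hqd, hqp⟩ : ∃ q, q.Prime ∧ q ∣ N.index ∧ q ≠ p := by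
    by_contra hc
    push Not at hc
    refine hpp ((isPrimePow_nat_iff _).mpr ⟨p, N.index.primeFactorsList.length, Fact.out, ?_,
      (Nat.eq_prime_pow_of_unique_prime_dvd Subgroup.index_ne_zero_of_finite fun {d} hd hdd => hc d hd hdd).symm⟩)
    exact List.length_pos_of_ne_nil fun h => by
      rcases (Nat.primeFactorsList_eq_nil _).mp h with h | h
      · exact Subgroup.index_ne_zero_of_finite h
      · exact hne h
  haveI : Fact q.Prime := ⟨hq⟩
  -- no element of order `q` normalizes a `p`-subgroup of the quotient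
  have hvac : ∀ Q : Subgroup (G ⧸ N), IsPGroup p Q → Q ≠ ⊥ → ∀ g ∈ normalizer (Q : Set (G ⧸ N)),
      (orderOf g).Coprime p → g = 1 := by
    intro Q hQ hQ1 g hg hcop
    by_contra hg1
    obtain ⟨s, hs, hsd⟩ := Nat.exists_prime_and_dvd (mt orderOf_eq_one_iff.mp hg1)
    haveI : Fact s.Prime := ⟨hs⟩
    refine no_normalize hcam hA (p := p) (q := s) (fun e => ?_) hQ hQ1
      (orderOf_pow_orderOf_div (orderOf_pos g).ne' hsd) (pow_mem hg _)
    exact hs.not_dvd_one ((hcop.coprime_dvd_left hsd).gcd_eq_one ▸ Nat.dvd_gcd dvd_rfl (e ▸ dvd_rfl))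
  obtain ⟨Sp, K, hKn, hK⟩ := CfsgLib.hasNormalPComplement_of_frobeniusCond (G := G ⧸ N) (p := p) (by
    intro Q hQ g hg hcop x hx
    by_cases hQ1 : Q = ⊥
    · rw [hQ1] at hx
      rw [Subgroup.mem_bot.mp hx, one_mul, mul_one]
    · rw [hvac Q hQ hQ1 g hg (by exact hcop), one_mul, mul_one])
  have hqK : q ∣ Nat.card K := by
    have h1 : q ∣ Nat.card K * Nat.card (Sp : Subgroup (G ⧸ N)) := by rw [hK.card_mul_card, ← index_eq_card]; exact hqd
    refine ((Nat.Prime.dvd_mul hq).mp h1).resolve_right fun h => hqp ?_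
    obtain ⟨m, hm⟩ := IsPGroup.iff_card.mp Sp.isPGroup'
    rw [hm] at h
    exact (Nat.prime_dvd_prime_iff_eq hq Fact.out).mp (hq.dvd_of_dvd_pow h)
  let Qs : Sylow q ↥K := default
  have hQ1 : (Qs : Subgroup ↥K).map K.subtype ≠ ⊥ := fun h => by
    rw [map_eq_bot_iff_of_injective _ K.subtype_injective] at h
    have h1 := Qs.dvd_card_of_dvd_card hqK
    rw [h, card_bot] at h1
    exact hq.not_dvd_one h1
  have htop := Sylow.normalizer_sup_eq_top Qs
  have hpd : p ∣ Nat.card (normalizer (((Qs : Subgroup ↥K).map K.subtype : Subgroup (G ⧸ N)) : Set (G ⧸ N))) := by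
    set M := normalizer (((Qs : Subgroup ↥K).map K.subtype : Subgroup (G ⧸ N)) : Set (G ⧸ N))
    have h1 : K.relIndex (M ⊔ K) = K.relIndex M := relIndex_sup_right _ _
    rw [htop, relIndex_top_right, hK.symm.index_eq_card] at h1
    refine dvd_trans ?_ (h1 ▸ Subgroup.index_dvd_card (K.subgroupOf M) : Nat.card (Sp : Subgroup (G ⧸ N)) ∣ Nat.card M)
    exact Sp.dvd_card_of_dvd_card ((Nat.minFac_dvd _).trans (index_eq_card N).dvd)
  obtain ⟨g, hg⟩ := exists_prime_orderOf_dvd_card' p hpd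
  exact no_normalize hcam hA (p := q) (q := p) hqp (Qs.isPGroup'.map _) hQ1
    (by rw [orderOf_coe]; exact hg) g.2

end CfsgLib.Camina
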