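import Mathlib
import Cfsg.Agent.Lib.CharTheory
import Cfsg.Agent.Lib.CharTheory.DetOrbit
import Cfsg.Agent.Lib.CharTheory.ResidualDegrees
import Cfsg.Agent.Lib.Camina.Trichotomy

/-!
A Camina pair with a `p`-group quotient has a normal `p`-complement: every nonprincipal character that could
count against it has degree divisible by `p`.
-/

set_option autoImplicit false
set_option linter.unusedSectionVars false

namespace CfsgLib.Camina

open Cfsg CfsgLib.CharTheory

universe u

variable {G : Type u} [Group G] [Finite G] {N : Subgroup G} [N.Normal] {p : ℕ} [hp : Fact p.Prime]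

/-- An irreducible character that is nontrivial on `N` vanishes outside `N`. -/
theorem vanish_of_nontrivial_on (hcam : ∀ g : G, g ∉ N → ∀ n ∈ N, ∃ x : G, x * g * x⁻¹ = g * n) {χ : G → ℂ}
    (hχ : IsIrrCharacter G χ) (hk : ¬ ∀ n ∈ N, χ n = χ 1) {g : G} (hg : g ∉ N) : χ g = 0 := by
  haveI := Fintype.ofFinite G
  haveI := Fintype.ofFinite N
  have h := congrFun ((kernel_or_cosetAvg_eq_zero N hχ).resolve_left hk) g
  have hc : ∀ n : N, χ ((n : G) * g) = χ g := fun n => by
    obtain ⟨x, hx⟩ := hcam g hg (g⁻¹ * n * g) (by simpa using ‹N.Normal›.conj_mem (n : G) n.2 g⁻¹)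
    rw [show (n : G) * g = x * g * x⁻¹ by rw [hx]; group]
    exact isClassFunction_irr hχ g x
  simp only [cosetAvg, hc, Finset.sum_const, Finset.card_univ, nsmul_eq_mul, Pi.zero_apply, mul_eq_zero,
    inv_eq_zero, Nat.cast_eq_zero, Nat.card_pos.ne', Fintype.card_ne_zero, false_or] at h
  exact h

/-- **The normal `p`-complement.** -/
theorem not_dvd_card_pResidual (hcam : ∀ g : G, g ∉ N → ∀ n ∈ N, ∃ x : G, x * g * x⁻¹ = g * n) (hN2 : N ≠ ⊤)
    (hq : IsPGroup p (G ⧸ N)) : ¬ p ∣ Nat.card (pResidual p G) := by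
  classical
  haveI := Fintype.ofFinite G
  obtain ⟨j, hj⟩ := IsPGroup.iff_card.mp hq
  have hidx : N.index = p ^ j := by rw [Subgroup.index_eq_card]; exact hj
  -- a nontrivial linear character of the quotient
  obtain ⟨μ, a, hμN, hμa⟩ : ∃ (μ : G →* ℂˣ) (a : G), (∀ n ∈ N, μ n = 1) ∧ μ a ≠ 1 := by
    haveI : Group.IsNilpotent (G ⧸ N) := hq.isNilpotent
    haveI : Nontrivial (G ⧸ N) := QuotientGroup.nontrivial_iff.mpr hN2
    haveI : Nontrivial (Abelianization (G ⧸ N)) :=
      QuotientGroup.nontrivial_iff.mpr (Group.IsSolvable.commutator_lt_top_of_nontrivial (G ⧸ N)).ne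
    obtain ⟨b, hb⟩ := exists_ne (1 : Abelianization (G ⧸ N))
    obtain ⟨φ, hφ⟩ := CommGroup.exists_apply_ne_one_of_hasEnoughRootsOfUnity (Abelianization (G ⧸ N)) ℂ hb
    obtain ⟨c, rfl⟩ := QuotientGroup.mk_surjective b
    obtain ⟨d, rfl⟩ := QuotientGroup.mk'_surjective N c
    refine ⟨(φ.comp Abelianization.of).comp (QuotientGroup.mk' N), d, fun n hn => ?_, hφ⟩
    simp [(QuotientGroup.eq_one_iff n).mpr hn]
  have hμp : (μ a) ^ p ^ j = 1 := by
    rw [← map_pow]
    refine hμN _ ?_
    rw [← QuotientGroup.eq_one_iff, QuotientGroup.mk_pow, ← hj]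
    exact pow_card_eq_one'
  -- the only character left is the trivial one
  have hS : {χ : IrrCharacter G | ¬ p ∣ charDegree (χ : G → ℂ) ∧ ¬ p ∣ detOrder (χ : G → ℂ)} =
      {⟨fun _ => 1, isIrrCharacter_one⟩} := by
    ext χ
    simp only [Set.mem_setOf_eq, Set.mem_singleton_iff]
    constructor
    · rintro ⟨hd, ho⟩
      have hchar := isCharacter_of_irr χ.2
      have hk : ∀ n ∈ N, (χ : G → ℂ) n = (χ : G → ℂ) 1 := by
        by_contra hk
        refine hd ?_
        have htw : ((χ : G → ℂ) * fun g => (μ g : ℂ)) = χ := by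
          funext g
          by_cases hg : g ∈ N
          · simp [hμN g hg]
          · simp [vanish_of_nontrivial_on hcam χ.2 hk hg]
        have h := congrFun (detChar_twist hchar μ) a
        rw [htw, Pi.mul_apply] at h
        obtain ⟨m, ρ, hρ⟩ := hchar
        rw [← hρ, detChar_eq ρ, eq_comm, mul_eq_left₀ (Units.ne_zero _), ← Units.val_pow_eq_pow_val,
          Units.val_eq_one, hρ] at h
        by_contra hpd
        exact hμa (orderOf_eq_one_iff.mp (Nat.eq_one_of_dvd_coprimes
          ((hp.out.coprime_iff_not_dvd.mpr hpd).pow_left j) (orderOf_dvd_of_pow_eq_one hμp)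
          (orderOf_dvd_of_pow_eq_one h)))
      have hle : N ≤ charKernel (χ : G → ℂ) hchar := fun n hn => (mem_charKernel hchar n).mpr (hk n hn)
      have h1 : charDegree (χ : G → ℂ) = 1 := by
        obtain ⟨i, -, hi⟩ := (Nat.dvd_prime_pow hp.out).mp
          (((charDegree_dvd_index_kernel χ.2).trans (Subgroup.index_dvd_of_le hle)).trans hidx.dvd)
        rcases i with _ | i
        · simpa using hi
        · exact absurd (hi ▸ dvd_pow_self p i.succ_ne_zero) hd
      have hχ1 : (χ : G → ℂ) 1 = 1 := by rw [(charDegree_spec' χ.2).1, h1, Nat.cast_one]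
      obtain ⟨φ, hφ⟩ := exists_hom_of_degree_one hchar hχ1
      rw [hφ, detOrder, detChar_linear, orderOf_homFun] at ho
      have hdvd : orderOf φ ∣ p ^ j := by
        refine orderOf_dvd_of_pow_eq_one (MonoidHom.ext fun g => Units.ext ?_)
        rw [MonoidHom.pow_apply, ← map_pow, MonoidHom.one_apply, Units.val_one]
        have h2 := hk (g ^ p ^ j) (by rw [← QuotientGroup.eq_one_iff, QuotientGroup.mk_pow, ← hj]; exact pow_card_eq_one')
        rw [hχ1, hφ] at h2
        exact h2
      obtain ⟨i, -, hi⟩ := (Nat.dvd_prime_pow hp.out).mp hdvd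
      rcases i with _ | i
      · refine Subtype.ext ?_
        rw [hφ, orderOf_eq_one_iff.mp (by simpa using hi : orderOf φ = 1)]
        simp
      · exact absurd (hi ▸ dvd_pow_self p i.succ_ne_zero) ho
    · rintro rfl
      have e : (fun _ : G => (1 : ℂ)) = fun g => (((1 : G →* ℂˣ) g : ℂˣ) : ℂ) := by simp
      refine ⟨?_, ?_⟩
      · have h1 := (Nat.cast_eq_one.mp (charDegree_spec' (χ := fun _ : G => (1 : ℂ)) isIrrCharacter_one).1.symm).symm
        show ¬ p ∣ charDegree (fun _ : G => (1 : ℂ))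
        rw [← h1]; exact hp.out.not_dvd_one
      · show ¬ p ∣ detOrder (fun _ : G => (1 : ℂ))
        rw [e, detOrder, detChar_linear, orderOf_homFun, orderOf_one]
        exact hp.out.not_dvd_one
  intro hdvd
  have h := card_residual_modEq (G := G) (p := p)
  rw [hS, finsum_mem_singleton] at h
  have h1 := (Nat.cast_eq_one.mp (charDegree_spec' (χ := fun _ : G => (1 : ℂ)) isIrrCharacter_one).1.symm).symm
  change (Nat.card (pResidual p G) : ℤ) ≡ ((charDegree (fun _ : G => (1 : ℂ)) : ℕ) : ℤ) ^ 2 [ZMOD p] at h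
  rw [← h1, Nat.cast_one, one_pow, ← ZMod.intCast_eq_intCast_iff, Int.cast_natCast, Int.cast_one,
    (ZMod.natCast_eq_zero_iff _ p).mpr hdvd] at h
  exact zero_ne_one h

end CfsgLib.Camina
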