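import Mathlib
import Cfsg.Agent.Lib.NilpotentCommute
import Cfsg.Agent.Lib.Camina.FixedFree
import Cfsg.Agent.Lib.Camina.Trichotomy

/-!
Camina pairs with nilpotent kernel not of prime power order are Frobenius.
-/

set_option autoImplicit false
set_option linter.unusedSectionVars false

namespace CfsgLib.Camina

open Subgroup

variable {G : Type*} [Group G] [Finite G] {N : Subgroup G} [N.Normal]

/-- Centralizer orders agree with those of the quotient. -/
theorem card_centralizer (hcam : ∀ g : G, g ∉ N → ∀ n ∈ N, ∃ x : G, x * g * x⁻¹ = g * n) {x : G} (hx : x ∉ N) :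
    Nat.card (centralizer ({x} : Set G)) = Nat.card (centralizer ({(x : G ⧸ N)} : Set (G ⧸ N))) := by
  classical
  set C := centralizer ({x} : Set G) with hC
  set Cb := centralizer ({(x : G ⧸ N)} : Set (G ⧸ N)) with hCb
  set D := Cb.comap (QuotientGroup.mk' N) with hD
  have hmem : ∀ d : G, d ∈ D ↔ x⁻¹ * (d * x * d⁻¹) ∈ N := fun d => by
    show (d : G ⧸ N) ∈ Cb ↔ _
    rw [hCb, mem_centralizer_singleton_iff, ← QuotientGroup.eq_one_iff, QuotientGroup.mk_mul, QuotientGroup.mk_mul,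
      QuotientGroup.mk_mul, QuotientGroup.mk_inv, QuotientGroup.mk_inv, inv_mul_eq_one, eq_mul_inv_iff_mul_eq]
    exact eq_comm
  choose c hc using fun n : N => hcam x hx n n.2
  have hcD : ∀ n, c n ∈ D := fun n => (hmem _).mpr (by rw [hc n, inv_mul_cancel_left]; exact n.2)
  let φ : ↥D → ↥N := fun d => ⟨x⁻¹ * ((d : G) * x * (d : G)⁻¹), (hmem d).mp d.2⟩
  have hfix : ∀ d : ↥D, (c (φ d))⁻¹ * (d : G) ∈ C := fun d => by
    rw [hC, mem_centralizer_singleton_iff]
    have h1 := hc (φ d)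
    simp only [φ, mul_inv_cancel_left] at h1
    calc (c (φ d))⁻¹ * (d : G) * x = (c (φ d))⁻¹ * ((d : G) * x * (d : G)⁻¹) * d := by group
      _ = (c (φ d))⁻¹ * (c (φ d) * x * (c (φ d))⁻¹) * d := by rw [h1]
      _ = x * ((c (φ d))⁻¹ * d) := by group
  have hCD : C ≤ D := fun z hz => (hmem z).mpr (by
    rw [mem_centralizer_singleton_iff.mp hz, mul_inv_cancel_right, inv_mul_cancel]; exact N.one_mem)
  let e : ↥D ≃ ↥N × ↥C :=
    { toFun := fun d => (φ d, ⟨_, hfix d⟩)
      invFun := fun z => ⟨c z.1 * z.2, D.mul_mem (hcD _) (hCD z.2.2)⟩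
      left_inv := fun d => Subtype.ext (mul_inv_cancel_left _ _)
      right_inv := fun z => by
        have h1 : φ ⟨c z.1 * z.2, D.mul_mem (hcD _) (hCD z.2.2)⟩ = z.1 := Subtype.ext (by
          show x⁻¹ * (c z.1 * (z.2 : G) * x * (c z.1 * (z.2 : G))⁻¹) = z.1
          rw [mul_assoc (c z.1) (z.2 : G) x, mem_centralizer_singleton_iff.mp z.2.2, mul_inv_rev,
            show c z.1 * (x * (z.2 : G)) * ((z.2 : G)⁻¹ * (c z.1)⁻¹) = c z.1 * x * (c z.1)⁻¹ by group, hc z.1,
            inv_mul_cancel_left])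
        refine Prod.ext h1 (Subtype.ext ?_)
        show (c (φ _))⁻¹ * (c z.1 * (z.2 : G)) = z.2
        rw [h1, inv_mul_cancel_left] }
  have h1 := Nat.card_congr e
  rw [Nat.card_prod] at h1
  have h2 := D.index_mul_card
  rw [hD, index_comap_of_surjective _ (QuotientGroup.mk'_surjective N), ← hD, h1,
    ← N.index_mul_card, N.index_eq_card, ← Cb.index_mul_card, mul_comm (Nat.card N) (Nat.card C), ← mul_assoc] at h2
  exact Nat.eq_of_mul_eq_mul_left (Nat.pos_of_ne_zero index_ne_zero_of_finite)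
    (Nat.eq_of_mul_eq_mul_right Nat.card_pos h2)

/-- A `p`-element with a power in the given subgroup. -/
theorem exists_step {H : Type*} [Group H] {p : ℕ} (S : Subgroup H) : ∀ (k : ℕ) (y : H), y ^ p ^ k ∈ S → y ∉ S →
    ∃ z ∈ zpowers y, z ∉ S ∧ z ^ p ∈ S := by
  intro k
  induction k with
  | zero => intro y h1 h2; rw [pow_zero, pow_one] at h1; exact absurd h1 h2
  | succ k ih =>
    intro y h1 h2
    by_cases h : y ^ p ^ k ∈ S
    · exact ih y h h2
    · exact ⟨y ^ p ^ k, pow_mem (mem_zpowers y) _, h, by rwa [← pow_mul, ← pow_succ]⟩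

/-- The Frobenius alternative. -/
theorem centralizer_le_of_nilpotent (hcam : ∀ g : G, g ∉ N → ∀ n ∈ N, ∃ x : G, x * g * x⁻¹ = g * n)
    [Group.IsNilpotent N] (hN : ¬ IsPrimePow (Nat.card N)) :
    ∀ y ∈ N, y ≠ 1 → centralizer ({y} : Set G) ≤ N := by
  classical
  intro y hy hy1 g hg
  by_contra hgN
  rw [mem_centralizer_singleton_iff] at hg
  have hgy : Commute g y := hg
  obtain ⟨p, hp, hpd⟩ := Nat.exists_prime_and_dvd (mt orderOf_eq_one_iff.mp
    (mt (QuotientGroup.eq_one_iff (N := N) g).mp hgN))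
  haveI : Fact p.Prime := ⟨hp⟩
  set g' := g ^ (orderOf (g : G ⧸ N) / p) with hg'
  have hg'o : orderOf (g' : G ⧸ N) = p := by
    rw [hg', QuotientGroup.mk_pow]; exact orderOf_pow_orderOf_div (orderOf_pos _).ne' hpd
  obtain ⟨u, hu, ⟨i, hi⟩, hug⟩ := exists_lift (N := N) (p := p) (w := g') (k := 1)
    ((QuotientGroup.eq_one_iff _).mp (by rw [pow_one, QuotientGroup.mk_pow, ← hg'o, pow_orderOf_eq_one]))
  have huN : u ∉ N := fun h => by
    rw [(QuotientGroup.eq_one_iff u).mpr h] at hug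
    rw [← hug, orderOf_one] at hg'o
    exact hp.ne_one hg'o.symm
  have huy : Commute u y := by
    obtain ⟨k, rfl⟩ := mem_zpowers_iff.mp hu
    exact (hgy.pow_left _).zpow_left k
  have hyp : ∀ s : ℕ, s.Prime → s ∣ orderOf y → s = p := fun s hs hsd => by
    by_contra hne
    refine hs.ne_one ?_
    rw [← orderOf_pow_orderOf_div (orderOf_pos y).ne' hsd]
    refine orderOf_eq_one_iff.mpr (eq_one_of_commute hcam huN (pow_mem hy _) (huy.pow_right _) ?_)
    rw [orderOf_pow_orderOf_div (orderOf_pos y).ne' hsd]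
    exact ((((Nat.coprime_primes hp hs).mpr (Ne.symm hne)).pow_left i)).coprime_dvd_left (orderOf_dvd_of_pow_eq_one hi)
  have hpN : p ∣ Nat.card N := by
    obtain ⟨s, hs, hsd⟩ := Nat.exists_prime_and_dvd (mt orderOf_eq_one_iff.mp hy1)
    exact hyp s hs hsd ▸ hsd.trans (N.orderOf_dvd_natCard hy)
  obtain ⟨r, hr, hrd, hrp⟩ : ∃ r, r.Prime ∧ r ∣ Nat.card N ∧ r ≠ p := by
    by_contra hc
    push Not at hc
    refine hN ((isPrimePow_nat_iff _).mpr ⟨p, (Nat.card N).primeFactorsList.length, hp, ?_,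
      (Nat.eq_prime_pow_of_unique_prime_dvd Nat.card_pos.ne' fun {d} hd hdd => hc d hd hdd).symm⟩)
    exact List.length_pos_of_ne_nil fun h => by
      rcases (Nat.primeFactorsList_eq_nil _).mp h with h | h
      · exact Nat.card_pos.ne' h
      · rw [h] at hpN; exact hp.ne_one (Nat.dvd_one.mp hpN)
  haveI : Fact r.Prime := ⟨hr⟩
  -- central `r`-elements of `N`
  let V : Subgroup G :=
    { carrier := {w | w ∈ N ∧ w ^ r = 1 ∧ ∀ n ∈ N, Commute n w}
      one_mem' := ⟨N.one_mem, one_pow _, fun n _ => Commute.one_right n⟩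
      mul_mem' := fun {v w} hv hw => ⟨N.mul_mem hv.1 hw.1, by
        rw [(hw.2.2 v hv.1).mul_pow, hv.2.1, hw.2.1, one_mul], fun n hn => (hv.2.2 n hn).mul_right (hw.2.2 n hn)⟩
      inv_mem' := fun {v} hv => ⟨N.inv_mem hv.1, by rw [inv_pow, hv.2.1, inv_one],
        fun n hn => (hv.2.2 n hn).inv_right⟩ }
  haveI hVn : V.Normal := ⟨fun w hw a => ⟨(‹N.Normal›).conj_mem w hw.1 a, by rw [conj_pow, hw.2.1]; group,
    fun n hn => by
      have h1 := (hw.2.2 _ ((‹N.Normal›).conj_mem n hn a⁻¹)).eq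
      rw [inv_inv] at h1
      show n * (a * w * a⁻¹) = a * w * a⁻¹ * n
      calc n * (a * w * a⁻¹) = a * (a⁻¹ * n * a * w) * a⁻¹ := by group
        _ = a * (w * (a⁻¹ * n * a)) * a⁻¹ := by rw [h1]
        _ = a * w * a⁻¹ * n := by group⟩⟩
  obtain ⟨v, hv, hv1⟩ : ∃ v ∈ V, v ≠ 1 := by
    set R : Sylow r ↥N := default
    have hRn : (R : Subgroup ↥N).Normal := by
      have h := ((Group.isNilpotent_of_finite_tfae (G := ↥N)).out 0 3).mp ‹Group.IsNilpotent ↥N›
      exact h r inferInstance R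
    have hR1 : Nontrivial ↥(R : Subgroup ↥N) := by
      rw [Subgroup.nontrivial_iff_ne_bot]
      intro h
      have h1 := R.dvd_card_of_dvd_card hrd
      rw [h, card_bot] at h1
      exact hr.not_dvd_one h1
    haveI := R.isPGroup'.center_nontrivial
    obtain ⟨z, hz⟩ := exists_prime_orderOf_dvd_card' (G := center ↥(R : Subgroup ↥N)) r (by
      obtain ⟨k, hk⟩ := IsPGroup.iff_card.mp (R.isPGroup'.to_subgroup (center ↥(R : Subgroup ↥N)))
      rcases k with _ | k
      · rw [pow_zero] at hk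
        exact absurd hk Finite.one_lt_card.ne'
      · rw [hk]; exact dvd_pow_self r k.succ_ne_zero)
    rw [← orderOf_coe, ← orderOf_coe] at hz
    set z0 : ↥N := ((z : ↥(R : Subgroup ↥N)) : ↥N) with hz0
    have hcen : centralizer ({z0} : Set ↥N) = ⊤ := by
      rw [← index_eq_one]
      by_contra hne
      obtain ⟨l, hl, hld⟩ := Nat.exists_prime_and_dvd hne
      haveI : Fact l.Prime := ⟨hl⟩
      obtain ⟨L⟩ : Nonempty (Sylow l ↥N) := inferInstance
      refine L.not_dvd_index (hld.trans (index_dvd_of_le fun w hw => ?_))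
      rw [mem_centralizer_singleton_iff]
      by_cases hlr : l = r
      · subst hlr
        have hLR : L = R := by
          haveI := Sylow.unique_of_normal R hRn
          exact Subsingleton.elim _ _
        have h1 := congrArg Subtype.val (mem_center_iff.mp z.2 ⟨w, hLR ▸ hw⟩)
        exact h1
      · obtain ⟨k, hk⟩ := IsPGroup.iff_orderOf.mp L.isPGroup' ⟨w, hw⟩
        rw [Subgroup.orderOf_mk] at hk
        refine (CfsgLib.commute_of_nilpotent w z0 ?_).eq
        rw [hk, hz0, hz]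
        exact ((Nat.coprime_primes hl hr).mpr hlr).pow_left k
    refine ⟨(z0 : G), ⟨z0.2, ?_, fun n hn => ?_⟩, fun h => ?_⟩
    · rw [← SubmonoidClass.coe_pow, show r = orderOf z0 from hz.symm, pow_orderOf_eq_one]; rfl
    · have h1 : (⟨n, hn⟩ : ↥N) ∈ centralizer ({z0} : Set ↥N) := by rw [hcen]; exact mem_top _
      exact congrArg Subtype.val (mem_centralizer_singleton_iff.mp h1)
    · rw [show orderOf ((z : ↥(R : Subgroup ↥N)) : ↥N) = orderOf z0 from rfl,
        show z0 = 1 from Subtype.ext h, orderOf_one] at hz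
      exact hr.ne_one hz.symm
  letI : CommGroup ↥V := { (inferInstance : Group ↥V) with
    mul_comm := fun a b => Subtype.ext (b.2.2.2 a a.2.1).eq }
  let ψ : G ⧸ N →* MulAut ↥V := QuotientGroup.lift N MulAut.conjNormal fun n hn => MulEquiv.ext fun w => Subtype.ext (by
    rw [MulAut.conjNormal_apply, (w.2.2.2 n hn).eq, mul_inv_cancel_right]; rfl)
  have hfree : ∀ h : G ⧸ N, h ≠ 1 → ∀ k, h ^ p ^ k = 1 → ∀ w, ψ h w = w → w = 1 := by
    intro h hh k hk w hw
    obtain ⟨a, rfl⟩ := QuotientGroup.mk'_surjective N h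
    obtain ⟨b, -, ⟨l, hl⟩, hba⟩ := exists_lift (N := N) (p := p) (w := a) (k := k)
      ((QuotientGroup.eq_one_iff _).mp (by rw [QuotientGroup.mk_pow]; exact hk))
    have hbN : b ∉ N := fun h' => hh (by
      rw [QuotientGroup.mk'_apply, ← hba, (QuotientGroup.eq_one_iff b).mpr h'])
    rw [QuotientGroup.mk'_apply, ← hba] at hw
    have h1 : b * (w : G) * b⁻¹ = w := congrArg Subtype.val hw
    refine Subtype.ext (eq_one_of_commute hcam hbN w.2.1 (mul_inv_eq_iff_eq_mul.mp h1) ?_)
    exact ((((Nat.coprime_primes hp hr).mpr (Ne.symm hrp)).pow_left l)).coprime_dvd_left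
      (orderOf_dvd_of_pow_eq_one hl) |>.coprime_dvd_right (orderOf_dvd_of_pow_eq_one w.2.2.1)
  -- no two independent commuting elements of order `p`
  have hpp : ∀ a b : G ⧸ N, Commute a b → orderOf a = p → b ^ p = 1 → b ∈ zpowers a := by
    intro a b hab ha hb
    by_contra hba
    have h := CfsgLib.Camina.pow_eq_one hp.pos (ψ a) (ψ b) (hab.map ψ)
      (by rw [← map_pow, ← ha, pow_orderOf_eq_one, map_one]) (by rw [← map_pow, hb, map_one])
      (fun i k hik w hw => by
        refine hfree (a ^ i * b ^ k) (fun h1 => hik ?_) 1 ?_ w (by rwa [map_mul, map_pow, map_pow])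
        · have h2 : b ^ k ∈ zpowers a := by
            rw [eq_inv_of_mul_eq_one_right h1]
            exact (zpowers a).inv_mem (pow_mem (mem_zpowers a) i)
          have hpk : p ∣ k := by
            by_contra hndvd
            refine hba ?_
            obtain ⟨m, -, hm⟩ := Nat.exists_mul_mod_eq_one_of_coprime
              ((hp.coprime_iff_not_dvd.mpr hndvd).symm) hp.one_lt
            have h3 := pow_mem h2 m
            rwa [← pow_mul, ← Nat.mod_add_div (k * m) p, hm, pow_add, pow_one, pow_mul, hb, one_pow, mul_one] at h3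
          refine ⟨?_, hpk⟩
          obtain ⟨k', rfl⟩ := hpk
          rw [pow_mul, hb, one_pow, mul_one] at h1
          exact ha ▸ orderOf_dvd_of_pow_eq_one h1
        · rw [pow_one, ((hab.pow_left i).pow_right k).mul_pow, ← pow_mul, mul_comm i, pow_mul, ← ha,
            pow_orderOf_eq_one, ← pow_mul, mul_comm k, pow_mul, ha, hb, one_pow, one_pow, one_mul])
      hp.one_lt ⟨v, hv⟩
    exact hv1 (eq_one_of_pow_coprime ((Nat.coprime_primes hr hp).mpr hrp) hv.2.1 (congrArg Subtype.val h))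
  -- a `p`-element of largest image order
  obtain ⟨x, ⟨ix, hix⟩, hmax⟩ := Set.exists_max_image {x : G | ∃ k, x ^ p ^ k = 1}
    (fun x => orderOf (x : G ⧸ N)) (Set.toFinite _) ⟨u, i, hi⟩
  obtain ⟨m, -, hm⟩ := (Nat.dvd_prime_pow hp).mp
    ((orderOf_map_dvd (QuotientGroup.mk' N) x).trans (orderOf_dvd_of_pow_eq_one hix))
  rw [QuotientGroup.mk'_apply] at hm
  have hxN : x ∉ N := fun h => by
    have h1 : orderOf (u : G ⧸ N) ≤ orderOf (x : G ⧸ N) := hmax u ⟨i, hi⟩
    rw [hug, hg'o, (QuotientGroup.eq_one_iff x).mpr h, orderOf_one] at h1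
    exact absurd h1 (not_le.mpr hp.one_lt)
  have hm0 : m ≠ 0 := fun h => hxN ((QuotientGroup.eq_one_iff x).mp (orderOf_eq_one_iff.mp (by rw [hm, h, pow_zero])))
  set xb : G ⧸ N := (x : G ⧸ N) with hxb
  -- the Sylow subgroup of its centralizer in the quotient is cyclic
  have hcyc : ∀ w : G ⧸ N, Commute xb w → ∀ k, w ^ p ^ k = 1 → w ∈ zpowers xb := by
    intro w hw k hk
    by_contra hwx
    obtain ⟨z, hz, hzx, hzp⟩ := exists_step (zpowers xb) k w (by rw [hk]; exact one_mem _) hwx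
    have hzc : Commute xb z := by
      obtain ⟨j, rfl⟩ := mem_zpowers_iff.mp hz
      exact hw.zpow_right j
    have hzk : z ^ p ^ k = 1 := by
      obtain ⟨j, rfl⟩ := mem_zpowers_iff.mp hz
      rw [← zpow_natCast, ← zpow_mul, mul_comm, zpow_mul, zpow_natCast, hk, one_zpow]
    obtain ⟨j, hj'⟩ := mem_zpowers_iff_mem_range_orderOf.mp hzp |> Finset.mem_image.mp
    obtain ⟨-, hj⟩ := hj'
    by_cases hpj : p ∣ j
    · obtain ⟨j', rfl⟩ := hpj
      set b := z * (xb ^ j')⁻¹ with hb
      have hb1 : b ^ p = 1 := by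
        rw [hb, ((hzc.symm.pow_right j').inv_right).mul_pow, inv_pow, ← pow_mul, mul_comm j', hj, mul_inv_cancel]
      have hab : Commute (xb ^ p ^ (m - 1)) b :=
        ((hzc.mul_right (((Commute.refl xb).pow_right j').inv_right))).pow_left _
      have hao : orderOf (xb ^ p ^ (m - 1)) = p := by
        rw [orderOf_pow_of_dvd (pow_ne_zero _ hp.ne_zero) (hm ▸ Nat.pow_dvd_pow p (Nat.sub_le m 1)), hm,
          Nat.pow_div (Nat.sub_le m 1) hp.pos, show m - (m - 1) = 1 by omega, pow_one]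
      refine hzx ?_
      have h1 : b ∈ zpowers xb := zpowers_le.mpr (pow_mem (mem_zpowers xb) _) (hpp _ b hab hao hb1)
      have h2 := (zpowers xb).mul_mem h1 (pow_mem (mem_zpowers xb) j')
      rwa [hb, inv_mul_cancel_right] at h2
    · have h1 : orderOf (z ^ p) = p ^ m := by
        rw [← hj, Nat.Coprime.orderOf_pow, hm]
        rw [hm]
        exact (hp.coprime_iff_not_dvd.mpr hpj).pow_left m
      obtain ⟨z', rfl⟩ := QuotientGroup.mk'_surjective N z
      obtain ⟨z2, -, ⟨l, hl⟩, hz2⟩ := exists_lift (N := N) (p := p) (w := z') (k := k)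
        ((QuotientGroup.eq_one_iff _).mp (by rw [QuotientGroup.mk_pow]; exact hzk))
      have h2 : orderOf (z2 : G ⧸ N) ≤ orderOf xb := hmax z2 ⟨l, hl⟩
      rw [hz2, hm, ← h1, orderOf_pow] at h2
      rw [QuotientGroup.mk'_apply] at h1 h2
      have h3 : p ∣ orderOf (z' : G ⧸ N) := by
        by_contra hnd
        have h4 : (orderOf (z' : G ⧸ N)).Coprime p := (hp.coprime_iff_not_dvd.mpr hnd).symm
        have h5 := Nat.eq_one_of_dvd_coprimes (h4.pow_right k) dvd_rfl (orderOf_dvd_of_pow_eq_one hzk)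
        rw [h4.orderOf_pow, h5] at h1
        exact hm0 (Nat.pow_eq_one.mp h1.symm |>.resolve_left hp.ne_one)
      rw [Nat.gcd_eq_right h3] at h2
      exact absurd h2 (not_le.mpr (Nat.div_lt_self (orderOf_pos _) hp.one_lt))
  -- the centralizer upstairs is too large
  haveI : Fact p.Prime := ⟨hp⟩
  obtain ⟨c, hcN, hcx, hc1⟩ : ∃ c ∈ N, Commute x c ∧ orderOf c = p := by
    let φ : ↥(zpowers x) →* MulAut ↥N := MulAut.conjNormal.comp (zpowers x).subtype
    letI : MulAction ↥(zpowers x) ↥N := MulAction.compHom ↥N φ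
    have hX : IsPGroup p (zpowers x) := IsPGroup.of_card (n := (Nat.dvd_prime_pow hp |>.mp
      (orderOf_dvd_of_pow_eq_one hix)).choose) (by
        rw [Nat.card_zpowers]; exact (Nat.dvd_prime_pow hp |>.mp (orderOf_dvd_of_pow_eq_one hix)).choose_spec.2)
    have h1 := hX.card_modEq_card_fixedPoints ↥N
    set F : Subgroup G := centralizer ({x} : Set G) ⊓ N with hF
    have e : ↥(MulAction.fixedPoints ↥(zpowers x) ↥N) ≃ ↥F :=
      { toFun := fun n => ⟨((n : ↥N) : G), mem_inf.mpr ⟨mem_centralizer_singleton_iff.mpr (by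
          have h := congrArg Subtype.val (n.2 ⟨x, mem_zpowers x⟩)
          exact (mul_inv_eq_iff_eq_mul.mp (h : x * ((n : ↥N) : G) * x⁻¹ = ((n : ↥N) : G))).symm), (n : ↥N).2⟩⟩
        invFun := fun n => ⟨⟨n, (mem_inf.mp n.2).2⟩, fun a => Subtype.ext (by
          obtain ⟨j, hj⟩ := mem_zpowers_iff.mp a.2
          show (a : G) * (n : G) * (a : G)⁻¹ = n
          rw [← hj, ((show Commute x (n : G) from (mem_centralizer_singleton_iff.mp (mem_inf.mp n.2).1).symm).zpow_left j).eq,
            mul_inv_cancel_right])⟩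
        left_inv := fun n => rfl
        right_inv := fun n => rfl }
    rw [Nat.card_congr e] at h1
    obtain ⟨c, hc⟩ := exists_prime_orderOf_dvd_card' (G := F) p
      (Nat.modEq_zero_iff_dvd.mp (h1.symm.trans (Nat.modEq_zero_iff_dvd.mpr hpN)))
    exact ⟨c, (mem_inf.mp c.2).2, (mem_centralizer_singleton_iff.mp (mem_inf.mp c.2).1).symm, by rw [orderOf_coe, hc]⟩
  set K : Subgroup G := zpowers x ⊔ zpowers c with hK
  have hKp : IsPGroup p K := by
    refine IsPGroup.to_sup_of_normal_right' ?_ ?_ ?_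
    · refine fun a => ⟨ix, Subtype.ext ?_⟩
      obtain ⟨j, hj⟩ := mem_zpowers_iff.mp a.2
      rw [SubmonoidClass.coe_pow, ← hj, ← zpow_natCast, ← zpow_mul, mul_comm, zpow_mul, zpow_natCast, hix, one_zpow]
      rfl
    · exact IsPGroup.of_card (n := 1) (by rw [Nat.card_zpowers, hc1, pow_one])
    · refine zpowers_le.mpr (centralizer_le_normalizer _ (show x ∈ centralizer (zpowers c : Set G) from ?_))
      rw [mem_centralizer_iff]
      intro w hw
      obtain ⟨j, rfl⟩ := mem_zpowers_iff.mp hw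
      exact ((hcx.zpow_right j).symm).eq
  have hKC : K ≤ centralizer ({x} : Set G) := sup_le (zpowers_le.mpr (mem_centralizer_singleton_iff.mpr rfl))
    (zpowers_le.mpr (mem_centralizer_singleton_iff.mpr hcx.symm))
  obtain ⟨k, hk⟩ := IsPGroup.iff_card.mp hKp
  have hbig : p ^ m < p ^ k := by
    rw [← hk]
    let f : ↥K →* G ⧸ N := (QuotientGroup.mk' N).comp K.subtype
    have h1 := f.ker.index_mul_card
    rw [index_ker] at h1
    have h2 : p ^ m ≤ Nat.card f.range := by
      rw [← hm, ← Nat.card_zpowers]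
      exact card_le_of_le (zpowers_le.mpr ⟨⟨x, mem_sup_left (mem_zpowers x)⟩, rfl⟩)
    have h3 : 1 < Nat.card f.ker := (Subgroup.one_lt_card_iff_ne_bot _).mpr fun h => by
      have h4 : (⟨c, mem_sup_right (mem_zpowers c)⟩ : ↥K) ∈ f.ker := (QuotientGroup.eq_one_iff c).mpr hcN
      rw [h, mem_bot] at h4
      rw [show c = 1 from congrArg Subtype.val h4, orderOf_one] at hc1
      exact hp.ne_one hc1.symm
    rw [← h1]
    calc p ^ m ≤ Nat.card f.range := h2
      _ = Nat.card f.range * 1 := (mul_one _).symm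
      _ < Nat.card f.range * Nat.card f.ker := Nat.mul_lt_mul_of_pos_left h3 Nat.card_pos
  have hdvd : p ^ k ∣ Nat.card (centralizer ({xb} : Set (G ⧸ N))) := by
    rw [← card_centralizer hcam hxN, ← hk]
    exact card_dvd_of_le hKC
  obtain ⟨S, hS⟩ := Sylow.exists_subgroup_card_pow_prime p hdvd
  have hle : S.map (centralizer ({xb} : Set (G ⧸ N))).subtype ≤ zpowers xb := by
    rintro _ ⟨w, hw, rfl⟩
    refine hcyc _ (mem_centralizer_singleton_iff.mp w.2).symm k ?_
    have h := pow_card_eq_one' (G := S) (x := ⟨w, hw⟩)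
    rw [hS] at h
    exact congrArg (fun t => ((t : ↥S) : ↥(centralizer ({xb} : Set (G ⧸ N)))).1) h
  have hfin := card_le_of_le hle
  rw [← Nat.card_congr (S.equivMapOfInjective _ (subtype_injective _)).toEquiv, hS, Nat.card_zpowers, hm] at hfin
  exact absurd hfin (not_le.mpr hbig)

end CfsgLib.Camina
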