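import Mathlib
import Cfsg.Agent.Lib.PComplement
import Cfsg.Agent.Lib.Transfer
import Cfsg.Agent.Lib.Camina.Complement
import Cfsg.Agent.Lib.Camina.Module.Main

/-!
In a Camina pair `(G, N)` the kernel `N` is solvable.
-/

set_option autoImplicit false
set_option linter.unusedSectionVars false

namespace CfsgLib.Camina

open Subgroup

universe u

variable {G : Type u} [Group G] [Finite G] {N : Subgroup G} [N.Normal] {p : ℕ} [hp : Fact p.Prime]

/-- A fixed-point-free involutory map inverts. -/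
theorem inv_of_involutive {A : Type*} [Group A] [Finite A] (f : A →* A) (h2 : ∀ a, f (f a) = a)
    (hfix : ∀ a, f a = a → a = 1) (a : A) : f a = a⁻¹ := by
  have hinj : Function.Injective fun x : A => x⁻¹ * f x := by
    intro x y hxy
    have h3 : x⁻¹ * f x = y⁻¹ * f y := hxy
    have h1 : f (y * x⁻¹) = y * x⁻¹ := by
      rw [map_mul, map_inv, mul_inv_eq_iff_eq_mul, mul_assoc, h3, mul_inv_cancel_left]
    exact (mul_inv_eq_one.mp (hfix _ h1)).symm
  obtain ⟨x, hx⟩ := Finite.surjective_of_injective hinj a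
  rw [← hx, map_mul, map_inv, h2, mul_inv_rev, inv_inv]

/-- The facts used about an element outside `N`, once `N` contains all elements of prime order. -/
structure Case2 (p : ℕ) (N : Subgroup G) [N.Normal] : Prop where
  cam : ∀ g : G, g ∉ N → ∀ n ∈ N, ∃ x : G, x * g * x⁻¹ = g * n
  proper : N ≠ ⊤
  prime : ∀ g : G, (orderOf g).Prime → g ∈ N
  quot : IsPGroup p (G ⧸ N)

theorem Case2.pElement (h : Case2 p N) {g : G} (hg : g ∉ N) : ∃ a, orderOf g = p ^ a := by
  obtain ⟨a, m, hm, hord⟩ := Nat.exists_eq_pow_mul_and_not_dvd (orderOf_pos g).ne' p hp.out.ne_one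
  have hcop : (p ^ a).Coprime m := (hp.out.coprime_iff_not_dvd.mpr hm).pow_left a
  have hno : orderOf (g ^ p ^ a) = m := by
    rw [orderOf_pow_of_dvd (pow_ne_zero _ hp.out.ne_zero) (hord ▸ dvd_mul_right _ _), hord,
      Nat.mul_div_cancel_left _ (pow_pos hp.out.pos _)]
  have hm0 : m ≠ 0 := fun e => hm (e ▸ dvd_zero p)
  have hn : g ^ p ^ a ∈ N := by
    rw [← QuotientGroup.eq_one_iff]
    obtain ⟨i, hi⟩ := h.quot ((g ^ p ^ a : G) : G ⧸ N)
    refine eq_one_of_pow_coprime ((hp.out.coprime_iff_not_dvd.mpr hm).pow_left i) hi ?_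
    rw [← QuotientGroup.mk_pow, ← hno, pow_orderOf_eq_one, QuotientGroup.mk_one]
  have hv : g ^ m ∉ N := fun e => hg (by
    rw [← pow_one g, ← hcop.gcd_eq_one, ← zpow_natCast, Nat.gcd_eq_gcd_ab, zpow_add, zpow_mul, zpow_mul,
      zpow_natCast, zpow_natCast]
    exact N.mul_mem (N.zpow_mem hn _) (N.zpow_mem e _))
  have hvo : orderOf (g ^ m) = p ^ a := by
    rw [orderOf_pow_of_dvd hm0 (hord ▸ dvd_mul_left _ _), hord, Nat.mul_div_cancel _ (Nat.pos_of_ne_zero hm0)]
  have h1 := eq_one_of_commute h.cam hv hn ((Commute.refl g).pow_pow _ _) (by rw [hvo, hno]; exact hcop)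
  exact ⟨a, by rw [hord, show m = 1 by rw [← hno, h1, orderOf_one], mul_one]⟩

theorem Case2.residual_le (h : Case2 p N) : Cfsg.pResidual p G ≤ N :=
  CfsgLib.Transfer.pResidual_le_of_isPGroup_quotient N h.quot

theorem Case2.fpf (h : Case2 p N) {g m : G} (hg : g ∉ N) (hm : m ∈ Cfsg.pResidual p G) (hc : Commute g m) :
    m = 1 := by
  obtain ⟨a, ha⟩ := h.pElement hg
  refine eq_one_of_commute h.cam hg (h.residual_le hm) hc ?_
  rw [ha]
  refine Nat.Coprime.coprime_dvd_right (Subgroup.orderOf_dvd_natCard _ hm) ?_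
  exact (hp.out.coprime_iff_not_dvd.mpr (not_dvd_card_pResidual h.cam h.proper h.quot)).pow_left a

theorem Case2.sylow_sup (h : Case2 p N) (P : Sylow p G) : (P : Subgroup G) ⊔ N = ⊤ := by
  refine top_le_iff.mp ?_
  rw [← CfsgLib.Transfer.sylow_sup_pResidual P]
  exact sup_le_sup_left h.residual_le _

theorem Case2.cam_sylow (h : Case2 p N) (P : Sylow p G) :
    ∀ g : ↥(P : Subgroup G), g ∉ N.subgroupOf P → ∀ n ∈ N.subgroupOf P,
      ∃ x : ↥(P : Subgroup G), x * g * x⁻¹ = g * n := by
  intro g hg n hn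
  set M := Cfsg.pResidual p G
  obtain ⟨x, hx⟩ := h.cam g hg n hn
  have hx' : x ∈ ((M ⊔ (P : Subgroup G) : Subgroup G) : Set G) := by
    rw [sup_comm, CfsgLib.Transfer.sylow_sup_pResidual P]; exact Set.mem_univ _
  rw [normal_mul] at hx'
  obtain ⟨m, hm, q, hq, rfl⟩ := hx'
  refine ⟨⟨q, hq⟩, Subtype.ext ?_⟩
  show q * (g : G) * q⁻¹ = g * n
  have hmem : (q * (g : G) * q⁻¹)⁻¹ * (g * n) ∈ M := by
    rw [← hx]
    rw [← QuotientGroup.eq_one_iff]
    simp only [QuotientGroup.mk_mul, QuotientGroup.mk_inv, (QuotientGroup.eq_one_iff m).mpr hm, mul_inv_rev, inv_inv,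
      inv_one, one_mul, mul_one]
    group
  have hP : (q * (g : G) * q⁻¹)⁻¹ * (g * n) ∈ (P : Subgroup G) :=
    mul_mem (inv_mem (mul_mem (mul_mem hq g.2) (inv_mem hq))) (mul_mem g.2 n.2)
  obtain ⟨i, hi⟩ := IsPGroup.iff_orderOf.mp P.2 ⟨_, hP⟩
  rw [Subgroup.orderOf_mk] at hi
  have h1 : orderOf ((q * (g : G) * q⁻¹)⁻¹ * (g * n)) = 1 := Nat.eq_one_of_dvd_coprimes
    ((hp.out.coprime_iff_not_dvd.mpr (not_dvd_card_pResidual h.cam h.proper h.quot)).pow_left i) hi.dvd
    (Subgroup.orderOf_dvd_natCard _ hmem)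
  exact inv_mul_eq_one.mp (orderOf_eq_one_iff.mp h1)

theorem Case2.bot_ne_inf (h : Case2 p N) (P : Sylow p G) : N.subgroupOf (P : Subgroup G) ≠ ⊥ := by
  intro e
  have hidx : p ∣ Nat.card (G ⧸ N) := by
    obtain ⟨j, hj⟩ := IsPGroup.iff_card.mp h.quot
    refine hj ▸ dvd_pow_self p fun hj0 => h.proper (index_eq_one.mp ?_)
    rw [index_eq_card, hj, hj0, pow_zero]
  have hP : p ∣ Nat.card (P : Subgroup G) :=
    P.dvd_card_of_dvd_card (hidx.trans (N.card_quotient_dvd_card))
  obtain ⟨g, hg⟩ := exists_prime_orderOf_dvd_card' (G := ↥(P : Subgroup G)) p hP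
  have hgN : g ∈ N.subgroupOf (P : Subgroup G) := h.prime g (by rw [Subgroup.orderOf_coe, hg]; exact hp.out)
  rw [e, mem_bot] at hgN
  rw [hgN, orderOf_one] at hg
  exact hp.out.one_lt.ne hg

theorem Case2.top_ne_inf (h : Case2 p N) (P : Sylow p G) : N.subgroupOf (P : Subgroup G) ≠ ⊤ := fun e =>
  h.proper (top_le_iff.mp ((h.sylow_sup P).ge.trans (sup_le (subgroupOf_eq_top.mp e) le_rfl)))

theorem Case2.index_sylow (h : Case2 p N) (P : Sylow p G) : (N.subgroupOf (P : Subgroup G)).index = N.index := by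
  rw [← relIndex, ← relIndex_sup_right (P : Subgroup G) N, h.sylow_sup P, relIndex_top_right]

/-- A nontrivial complement forces `p = 2` and index four. -/
theorem Case2.two (h : Case2 p N) (hM : Cfsg.pResidual p G ≠ ⊥) : p = 2 ∧ N.index = 4 := by
  classical
  set M := Cfsg.pResidual p G with hMdef
  have hpM : ¬ p ∣ Nat.card M := not_dvd_card_pResidual h.cam h.proper h.quot
  obtain ⟨r, hr, hrM⟩ := Nat.exists_prime_and_dvd (fun e => hM (card_eq_one.mp e))
  haveI := Fact.mk hr
  have hrp : r ≠ p := fun e => hpM (e ▸ hrM)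
  set R : Sylow r M := default
  set R' : Subgroup G := (R : Subgroup M).map M.subtype with hR'
  -- a Sylow `p`-subgroup normalizing `R`
  have hfrat : normalizer (R' : Set G) ⊔ M = ⊤ := Sylow.normalizer_sup_eq_top R
  obtain ⟨P, hPR⟩ : ∃ P : Sylow p G, (P : Subgroup G) ≤ normalizer (R' : Set G) := by
    set P0 : Sylow p G := default
    obtain ⟨a, ha⟩ := IsPGroup.iff_card.mp P0.2
    have hdvd : p ^ a ∣ Nat.card ↥(normalizer (R' : Set G)) := by
      have h1 : M.relIndex (normalizer (R' : Set G)) = M.index := by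
        rw [← relIndex_sup_right, hfrat, relIndex_top_right]
      have h2 : p ^ a ∣ M.index := by
        have h3 : p ^ a ∣ Nat.card M * M.index := by
          rw [M.card_mul_index, ← ha]; exact Subgroup.card_subgroup_dvd_card _
        exact ((hp.out.coprime_iff_not_dvd.mpr hpM).pow_left a).dvd_of_dvd_mul_left h3
      rw [← h1] at h2
      exact h2.trans (Dvd.intro_left _
        ((M.subgroupOf (normalizer (R' : Set G))).card_mul_index))
    obtain ⟨Q, hQ⟩ := Sylow.exists_subgroup_card_pow_prime p hdvd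
    refine ⟨Sylow.ofCard (Q.map (normalizer (R' : Set G)).subtype) ?_, ?_⟩
    · rw [← Nat.card_congr (Q.equivMapOfInjective _ (normalizer (R' : Set G)).subtype_injective).toEquiv, hQ, ← ha]
      exact P0.card_eq_multiplicity
    · exact map_subtype_le Q
  have hRne : Nontrivial R' := by
    rw [nontrivial_iff_ne_bot]
    intro e
    have h1 : Nat.card R' = Nat.card (R : Subgroup M) :=
      (Nat.card_congr ((R : Subgroup M).equivMapOfInjective _ M.subtype_injective).toEquiv).symm
    rw [e, card_bot] at h1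
    exact hr.not_dvd_one (h1 ▸ R.dvd_card_of_dvd_card hrM)
  have hR'r : IsPGroup r R' := R.2.map _
  -- the module
  let V : Subgroup G :=
    { carrier := {v | v ∈ R' ∧ (∀ b ∈ R', b * v = v * b) ∧ v ^ r = 1}
      one_mem' := ⟨R'.one_mem, fun b _ => by simp, one_pow r⟩
      mul_mem' := fun {a b} ha hb => ⟨R'.mul_mem ha.1 hb.1, fun c hc => by
        rw [← mul_assoc, ha.2.1 c hc, mul_assoc, hb.2.1 c hc, mul_assoc],
        by rw [(show Commute a b from hb.2.1 a ha.1).mul_pow, ha.2.2, hb.2.2, one_mul]⟩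
      inv_mem' := fun {a} ha => ⟨R'.inv_mem ha.1, fun c hc => (Commute.inv_right (ha.2.1 c hc) : Commute c a⁻¹),
        by rw [inv_pow, ha.2.2, inv_one]⟩ }
  have hVM : ∀ v ∈ V, v ∈ M := fun v hv => (map_subtype_le (R : Subgroup M)) hv.1
  obtain ⟨v0, hv0, hv01⟩ : ∃ v ∈ V, v ≠ 1 := by
    haveI := hR'r.center_nontrivial
    obtain ⟨c, hc⟩ := exists_ne (1 : center R')
    obtain ⟨a, ha⟩ := IsPGroup.iff_orderOf.mp hR'r (c : R')
    have ha0 : a ≠ 0 := fun e => hc (Subtype.ext (orderOf_eq_one_iff.mp (by rw [ha, e, pow_zero])))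
    refine ⟨(((c : R') ^ r ^ (a - 1) : R') : G), ⟨SetLike.coe_mem _, fun b hb => ?_, ?_⟩, fun e => ?_⟩
    · have hcomm : Commute (⟨b, hb⟩ : R') ((c : R') ^ r ^ (a - 1)) :=
        (show Commute (⟨b, hb⟩ : R') (c : R') from mem_center_iff.mp c.2 _).pow_right _
      exact congrArg Subtype.val hcomm.eq
    · rw [← SubmonoidClass.coe_pow, ← pow_mul, ← pow_succ, Nat.sub_add_cancel (Nat.one_le_iff_ne_zero.mpr ha0),
        ← ha, pow_orderOf_eq_one, OneMemClass.coe_one]
    · have h1 := orderOf_dvd_of_pow_eq_one (Subtype.ext e : (c : R') ^ r ^ (a - 1) = 1)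
      rw [ha, Nat.pow_dvd_pow_iff_le_right hr.one_lt] at h1
      omega
  have hconjV : ∀ g ∈ (P : Subgroup G), ∀ v ∈ V, g⁻¹ * v * g ∈ V := by
    intro g hg v hv
    have hn := fun b => mem_normalizer_iff.mp (hPR hg) b
    have hn' := fun b => mem_normalizer_iff.mp (inv_mem (hPR hg)) b
    refine ⟨by simpa using (hn' v).mp hv.1, fun b hb => ?_, ?_⟩
    · have h1 := hv.2.1 (g * b * g⁻¹) ((hn b).mp hb)
      calc b * (g⁻¹ * v * g) = g⁻¹ * (g * b * g⁻¹ * v) * g := by group
        _ = g⁻¹ * v * g * b := by rw [h1]; group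
    · calc (g⁻¹ * v * g) ^ r = g⁻¹ * v ^ r * g := by simpa using conj_pow (i := r) (a := g⁻¹) (b := v)
        _ = 1 := by rw [hv.2.2, mul_one, inv_mul_cancel]
  letI : CommGroup V :=
    { (inferInstance : Group V) with mul_comm := fun a b => Subtype.ext ((b.2.2.1 a a.2.1)) }
  letI : Module (ZMod r) (Additive V) := AddCommGroup.zmodModule fun v => by
    show Additive.ofMul ((Additive.toMul v) ^ r) = 0
    rw [show (Additive.toMul v) ^ r = 1 from Subtype.ext (by
      rw [SubmonoidClass.coe_pow]; exact (Additive.toMul v).2.2.2)]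
    rfl
  let k := AlgebraicClosure (ZMod r)
  let W := Additive V →+ k
  let ι : W →ₗ[k] (Additive V → k) :=
    { toFun := fun f v => f v, map_add' := fun _ _ => rfl, map_smul' := fun _ _ => rfl }
  haveI : Finite (Additive V) := inferInstanceAs (Finite V)
  haveI : Fintype (Additive V) := Fintype.ofFinite _
  haveI : FiniteDimensional k W := Module.Finite.of_injective ι fun f g e => AddMonoidHom.ext (congrFun e)
  haveI : Nontrivial W := by
    obtain ⟨f, hf⟩ := Module.Projective.exists_dual_ne_zero (ZMod r)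
      (x := Additive.ofMul (⟨v0, hv0⟩ : V)) (fun e => hv01 (congrArg Subtype.val e))
    refine nontrivial_of_ne ((algebraMap (ZMod r) k).toAddMonoidHom.comp f.toAddMonoidHom) 0 fun e => hf ?_
    have := DFunLike.congr_fun e (Additive.ofMul (⟨v0, hv0⟩ : V))
    simpa using (algebraMap (ZMod r) k).injective (this.trans (map_zero _).symm)
  let conjV : ↥(P : Subgroup G) → (Additive V →+ Additive V) := fun g => AddMonoidHom.mk'
    (fun v => Additive.ofMul ⟨(g : G)⁻¹ * ((Additive.toMul v : V) : G) * g, hconjV g g.2 _ (Additive.toMul v).2⟩)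
    fun a b => congrArg Additive.ofMul (Subtype.ext (by
      show (g : G)⁻¹ * (((Additive.toMul a : V) : G) * ((Additive.toMul b : V) : G)) * g =
        (g : G)⁻¹ * ((Additive.toMul a : V) : G) * g * ((g : G)⁻¹ * ((Additive.toMul b : V) : G) * g)
      group))
  let ρ : ↥(P : Subgroup G) →* Module.End k W :=
    { toFun := fun g =>
        { toFun := fun (f : W) => (AddMonoidHom.comp (f : Additive V →+ k) (conjV g) : W)
          map_add' := fun _ _ => rfl
          map_smul' := fun _ _ => rfl }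
      map_one' := LinearMap.ext fun (f : W) => AddMonoidHom.ext fun v => congrArg (⇑(f : Additive V →+ k)) (congrArg Additive.ofMul
        (Subtype.ext (show ((1 : ↥(P : Subgroup G)) : G)⁻¹ * ((Additive.toMul v : V) : G) * ((1 : ↥(P : Subgroup G)) : G) =
          (Additive.toMul v : V) by simp)))
      map_mul' := fun a b => LinearMap.ext fun (f : W) => AddMonoidHom.ext fun v => congrArg (⇑(f : Additive V →+ k)) (congrArg Additive.ofMul
        (Subtype.ext (show ((a * b : ↥(P : Subgroup G)) : G)⁻¹ * ((Additive.toMul v : V) : G) * ((a * b : ↥(P : Subgroup G)) : G) =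
          (b : G)⁻¹ * ((a : G)⁻¹ * ((Additive.toMul v : V) : G) * a) * b by simp [mul_assoc]))) }
  have hfpf : ∀ g ∉ N.subgroupOf (P : Subgroup G), ∀ f : W, ρ g f = f → f = 0 := by
    intro g hg f hf
    have hsurj : Function.Surjective (conjV g - AddMonoidHom.id (Additive V)) := by
      refine Finite.surjective_of_injective ((injective_iff_map_eq_zero _).mpr fun v hv => ?_)
      rw [AddMonoidHom.sub_apply, sub_eq_zero] at hv
      have h1 : (g : G)⁻¹ * ((Additive.toMul v : V) : G) * g = (Additive.toMul v : V) :=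
        congrArg (fun t : Additive V => ((Additive.toMul t : V) : G)) hv
      have h2 : Commute (g : G) ((Additive.toMul v : V) : G) := by
        show (g : G) * _ = _ * g
        nth_rw 1 [← h1]; group
      have h3 := h.fpf hg (hVM _ (Additive.toMul v).2) h2
      exact Additive.toMul.injective (Subtype.ext h3)
    refine AddMonoidHom.ext fun w => ?_
    obtain ⟨v, rfl⟩ := hsurj w
    rw [AddMonoidHom.sub_apply, map_sub, AddMonoidHom.zero_apply, sub_eq_zero]
    exact DFunLike.congr_fun hf v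
  haveI : CharP k r := charP_of_injective_algebraMap (algebraMap (ZMod r) k).injective r
  have hpk : (p : k) ≠ 0 := by
    rw [Ne, CharP.cast_eq_zero_iff k r p, Nat.prime_dvd_prime_iff_eq hr hp.out]
    exact hrp
  obtain ⟨h1, h2⟩ := Module.two_and_index_four P.2 hpk (h.cam_sylow P) (h.bot_ne_inf P) (h.top_ne_inf P) ρ hfpf
  exact ⟨h1, by rwa [h.index_sylow P] at h2⟩

/-- The complement is abelian. -/
theorem Case2.commute (h : Case2 p N) : ∀ a ∈ Cfsg.pResidual p G, ∀ b ∈ Cfsg.pResidual p G, a * b = b * a := by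
  classical
  set M := Cfsg.pResidual p G with hMdef
  by_cases hM : M = ⊥
  · intro a ha b hb
    rw [hM, mem_bot] at ha hb
    rw [ha, hb]
  obtain ⟨hp2, hidx⟩ := h.two hM
  subst hp2
  have hodd : ¬ 2 ∣ Nat.card M := not_dvd_card_pResidual h.cam h.proper h.quot
  set P : Sylow 2 G := default
  set P0 := N.subgroupOf (P : Subgroup G)
  have hi4 : P0.index = 4 := (h.index_sylow P).trans hidx
  have hcardQ : Nat.card (↥(P : Subgroup G) ⧸ P0) = 2 ^ 2 := by rw [← index_eq_card, hi4]; norm_num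
  -- every element outside is of order four and self-centralizing
  have hout : ∀ x : ↥(P : Subgroup G), x ∉ P0 → orderOf x = 4 ∧ centralizer {x} = zpowers x := by
    intro x hx
    have hc : Nat.card ↥(centralizer {x}) = 4 := by
      rw [card_centralizer (h.cam_sylow P) hx]
      have hab : ∀ a b : ↥(P : Subgroup G) ⧸ P0, a * b = b * a := fun a b =>
        (IsPGroup.isMulCommutative_of_card_eq_prime_sq (p := 2) hcardQ).is_comm.comm a b
      rw [show centralizer {(x : ↥(P : Subgroup G) ⧸ P0)} = ⊤ from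
        eq_top_iff.mpr fun y _ => mem_centralizer_singleton_iff.mpr (hab y _), card_top, hcardQ]
      norm_num
    have hle : zpowers x ≤ centralizer {x} := zpowers_le.mpr (mem_centralizer_singleton_iff.mpr rfl)
    have hdvd : orderOf x ∣ 2 ^ 2 := by
      rw [← Nat.card_zpowers]
      exact (card_dvd_of_le hle).trans (by rw [hc]; norm_num)
    obtain ⟨i, hi2, hi⟩ := (Nat.dvd_prime_pow Nat.prime_two).mp hdvd
    have ho : orderOf x = 4 := by
      interval_cases i
      · exact absurd (show x ∈ P0 by rw [show x = 1 from orderOf_eq_one_iff.mp (by simpa using hi)]; exact one_mem _) hx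
      · refine absurd ?_ hx
        exact h.prime x (by rw [Subgroup.orderOf_coe, hi]; exact Nat.prime_two)
      · simpa using hi
    exact ⟨ho, (eq_of_le_of_card_ge hle (by rw [hc, Nat.card_zpowers, ho])).symm⟩
  obtain ⟨z, hzP0, hz2, hzc⟩ := Module.exists_central (p := 2) P.2 P0 (h.bot_ne_inf P)
  have hzx : ∀ x : ↥(P : Subgroup G), x ∉ P0 → x * x = z := by
    intro x hx
    obtain ⟨ho, hcent⟩ := hout x hx
    have hz : z ∈ zpowers x := hcent ▸ mem_centralizer_singleton_iff.mpr (hzc x).symm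
    obtain ⟨i, hi, hiz⟩ := (IsOfFinOrder.mem_zpowers_iff_mem_range_orderOf (isOfFinOrder_of_finite _)).mp hz |>
      Finset.mem_image.mp
    rw [Finset.mem_range, ho] at hi
    change x ^ i = z at hiz
    interval_cases i
    · rw [pow_zero] at hiz
      rw [← hiz, orderOf_one] at hz2
      exact absurd hz2 (by norm_num)
    · rw [pow_one] at hiz
      exact absurd (hiz ▸ hzP0) hx
    · rw [← hiz, pow_two]
    · refine absurd ?_ hx
      rw [← hiz] at hz2
      have h1 := pow_orderOf_eq_one (x ^ 3)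
      rw [hz2, ← pow_mul, ← orderOf_dvd_iff_pow_eq_one, ho] at h1
      norm_num at h1
  obtain ⟨x, hx⟩ : ∃ x : ↥(P : Subgroup G), x ∉ P0 := by
    by_contra hne
    push Not at hne
    exact h.top_ne_inf P (eq_top_iff.mpr fun g _ => hne g)
  obtain ⟨y, hy, hxy⟩ : ∃ y : ↥(P : Subgroup G), y ∉ P0 ∧ x * y ∉ P0 := by
    by_contra hne
    push Not at hne
    have h1 : ∀ q : ↥(P : Subgroup G) ⧸ P0, q = 1 ∨ q = (x : ↥(P : Subgroup G) ⧸ P0)⁻¹ := by
      intro q
      obtain ⟨y, rfl⟩ := QuotientGroup.mk_surjective q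
      by_cases hy : y ∈ P0
      · exact Or.inl ((QuotientGroup.eq_one_iff y).mpr hy)
      · refine Or.inr ?_
        have := (QuotientGroup.eq_one_iff _).mpr (hne y hy)
        rw [QuotientGroup.mk_mul] at this
        exact eq_inv_of_mul_eq_one_right this
    have h2 : Nat.card (↥(P : Subgroup G) ⧸ P0) ≤ 2 := by
      refine le_trans (Nat.card_le_card_of_surjective
        (fun b : Bool => if b then (1 : ↥(P : Subgroup G) ⧸ P0) else (x : ↥(P : Subgroup G) ⧸ P0)⁻¹) fun q => ?_) (by simp)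
      rcases h1 q with e | e
      · exact ⟨true, e.symm⟩
      · exact ⟨false, e.symm⟩
    rw [hcardQ] at h2
    norm_num at h2
  -- inversion on the centralizer of `z`
  have hMn : ∀ g m : G, m ∈ M → g * m * g⁻¹ ∈ M := fun g m hm => (inferInstance : M.Normal).conj_mem m hm g
  have hzG : ∀ w : ↥(P : Subgroup G), (w : G) * z = z * w := fun w => congrArg Subtype.val (hzc w)
  let C : Subgroup G := M ⊓ centralizer {(z : G)}
  have hconj : ∀ w : ↥(P : Subgroup G), ∀ m ∈ C, (w : G) * m * (w : G)⁻¹ ∈ C := fun w m hm =>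
    ⟨hMn _ m hm.1, mem_centralizer_singleton_iff.mpr (by
      have h1 := mem_centralizer_singleton_iff.mp hm.2
      have h2 := hzG w
      have h3 : (w : G)⁻¹ * z = z * (w : G)⁻¹ := (show Commute (w : G) (z : G) from h2).inv_left.eq
      calc (w : G) * m * (w : G)⁻¹ * z = w * (m * z) * (w : G)⁻¹ := by rw [mul_assoc _ _ (z : G), h3]; group
        _ = z * ((w : G) * m * (w : G)⁻¹) := by rw [h1, ← mul_assoc, h2]; group)⟩
  have hinv : ∀ w : ↥(P : Subgroup G), w ∉ P0 → ∀ m ∈ C, (w : G) * m * (w : G)⁻¹ = m⁻¹ := by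
    intro w hw m hm
    let f : C →* C :=
      { toFun := fun a => ⟨(w : G) * a * (w : G)⁻¹, hconj w a a.2⟩
        map_one' := Subtype.ext (by simp)
        map_mul' := fun a b => Subtype.ext (by simp [mul_assoc]) }
    have h2 : ∀ a, f (f a) = a := fun a => Subtype.ext (by
      show (w : G) * ((w : G) * a * (w : G)⁻¹) * (w : G)⁻¹ = a
      have e : (w : G) * w = z := congrArg Subtype.val (hzx w hw)
      calc (w : G) * ((w : G) * a * (w : G)⁻¹) * (w : G)⁻¹ = ((w : G) * w) * a * ((w : G) * w)⁻¹ := by group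
        _ = a := by rw [e, ← mem_centralizer_singleton_iff.mp a.2.2, mul_inv_cancel_right])
    have h1 := inv_of_involutive f h2 (fun a ha => Subtype.ext (h.fpf (g := (w : G)) hw a.2.1
      (mul_inv_eq_iff_eq_mul.mp (congrArg Subtype.val ha)))) ⟨m, hm⟩
    exact congrArg Subtype.val h1
  have hodd1 : ∀ m ∈ M, m * m = 1 → m = 1 := by
    intro m hm hmm
    by_contra hne
    refine hodd ?_
    rw [← orderOf_eq_prime (p := 2) (by rw [pow_two]; exact hmm) hne]
    exact Subgroup.orderOf_dvd_natCard M hm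
  have hfix : ∀ m ∈ M, (z : G) * m * (z : G)⁻¹ = m → m = 1 := by
    intro m hm hzm
    have hmC : m ∈ C := ⟨hm, mem_centralizer_singleton_iff.mpr (mul_inv_eq_iff_eq_mul.mp hzm).symm⟩
    refine hodd1 m hm ?_
    have e1 := hinv y hy m hmC
    have e2 := hinv (x * y) hxy m hmC
    have e3 := hinv x hx m⁻¹ (C.inv_mem hmC)
    rw [inv_inv] at e3
    rw [Subgroup.coe_mul, show (x : G) * y * m * ((x : G) * y)⁻¹ = x * ((y : G) * m * (y : G)⁻¹) * (x : G)⁻¹ by group,
      e1, e3] at e2
    rwa [mul_eq_one_iff_eq_inv]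
  have hzz : (z : G) * z = 1 := by
    have h1 := pow_orderOf_eq_one z
    rw [hz2, pow_two] at h1
    exact congrArg Subtype.val h1
  let f : M →* M :=
    { toFun := fun a => ⟨(z : G) * a * (z : G)⁻¹, hMn _ _ a.2⟩
      map_one' := Subtype.ext (by simp)
      map_mul' := fun a b => Subtype.ext (by simp [mul_assoc]) }
  have hf := inv_of_involutive f (fun a => Subtype.ext (by
      show (z : G) * ((z : G) * a * (z : G)⁻¹) * (z : G)⁻¹ = a
      calc (z : G) * ((z : G) * a * (z : G)⁻¹) * (z : G)⁻¹ = ((z : G) * z) * a * ((z : G) * z)⁻¹ := by group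
        _ = a := by rw [hzz]; simp))
    (fun a ha => Subtype.ext (hfix a a.2 (congrArg Subtype.val ha)))
  intro a ha b hb
  have h1 := map_mul f ⟨a, ha⟩ ⟨b, hb⟩
  rw [hf, hf, hf, ← mul_inv_rev, inv_inj] at h1
  exact congrArg Subtype.val h1

/-- **The kernel of a Camina pair is solvable.** -/
theorem isSolvable_kernel (hcam : ∀ g : G, g ∉ N → ∀ n ∈ N, ∃ x : G, x * g * x⁻¹ = g * n) (hN2 : N ≠ ⊤) :
    Group.IsSolvable N := by
  by_cases hpr : ∃ x : G, x ∉ N ∧ (orderOf x).Prime
  · obtain ⟨x, hx, hxp⟩ := hpr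
    haveI := isNilpotent_of_prime_order hcam hx hxp
    infer_instance
  push Not at hpr
  have hA : ∀ g : G, (orderOf g).Prime → g ∈ N := fun g hg => by
    by_contra h
    exact hpr g h hg
  obtain ⟨q, j, hq, hj, hidx⟩ := (isPrimePow_nat_iff _).mp (index_isPrimePow hcam hA hN2)
  haveI := Fact.mk hq
  have h : Case2 q N := ⟨hcam, hN2, hA, IsPGroup.of_card (by rw [← index_eq_card]; exact hidx.symm)⟩
  set M := Cfsg.pResidual q G
  haveI hMsol : Group.IsSolvable ↥M :=
    Group.isSolvable_of_comm fun a b => Subtype.ext (h.commute a a.2 b b.2)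
  haveI : Group.IsSolvable (M.subgroupOf N) :=
    Group.isSolvable_of_isSolvable_injective (f := (subgroupOfEquivOfLe h.residual_le).toMonoidHom)
      (subgroupOfEquivOfLe h.residual_le).injective
  haveI : Group.IsNilpotent (↥N ⧸ M.subgroupOf N) := by
    refine IsPGroup.isNilpotent (p := q) ?_
    refine (CfsgLib.Transfer.isPGroup_quotient_pResidual (G := G) (p := q)).of_injective
      (QuotientGroup.lift (M.subgroupOf N) ((QuotientGroup.mk' M).comp N.subtype) (fun x hx => by
        rw [MonoidHom.mem_ker, MonoidHom.comp_apply, QuotientGroup.mk'_apply, QuotientGroup.eq_one_iff]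
        exact hx)) ?_
    rw [← MonoidHom.ker_eq_bot_iff, eq_bot_iff]
    intro x hx
    obtain ⟨y, rfl⟩ := QuotientGroup.mk_surjective x
    rw [MonoidHom.mem_ker, QuotientGroup.lift_mk, MonoidHom.comp_apply, QuotientGroup.mk'_apply,
      QuotientGroup.eq_one_iff] at hx
    exact Subgroup.mem_bot.mpr ((QuotientGroup.eq_one_iff y).mpr hx)
  exact Group.isSolvable_of_ker_le_range (M.subgroupOf N).subtype (QuotientGroup.mk' (M.subgroupOf N))
    (by rw [QuotientGroup.ker_mk', Subgroup.range_subtype])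

end CfsgLib.Camina
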